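import Cfsg.Agent.Lib.Recognition.PrimePowerSimple.Arith
import Cfsg.Agent.Lib.LocalEven.Spectrum
import Cfsg.Agent.Lib.KnownB.SuzukiStructure
import Cfsg.Agent.Lib.Perm.ZGroup.Simple
import Cfsg.Agent.Lib.Classical.Quat.Subfields
import Cfsg.Agent.S0254
import Cfsg.Agent.S0494
import Cfsg.Prelude.Def_Sz

/-!
Simple groups all whose elements have prime power order, from the list of the simple groups in which
involution centralisers are 2-groups.
-/

set_option autoImplicit false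

namespace CfsgLib.Recognition.PrimePowerSimple

/-- The simple groups with 2-groups as involution centralisers. -/
def CITList (G : Type*) [Group G] : Prop :=
  (∃ (F : Type) (_ : Field F) (_ : Fintype F),
      (Fintype.card F = 9 ∨ (∃ n : ℕ, Fintype.card F = 2 ^ n) ∨
        ((Fintype.card F).Prime ∧ ∃ k : ℕ, Fintype.card F = 2 ^ k + 1 ∨ Fintype.card F + 1 = 2 ^ k)) ∧
      Nonempty (G ≃* Matrix.ProjectiveSpecialLinearGroup (Fin 2) F)) ∨
  (∃ (F : Type) (_ : Field F) (_ : Fintype F), Fintype.card F = 4 ∧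
      Nonempty (G ≃* Matrix.ProjectiveSpecialLinearGroup (Fin 3) F)) ∨
  Cfsg.Lie.IsoSuzuki G

/-- The simple groups all whose elements have prime power order. -/
def PPList (G : Type*) [Group G] : Prop :=
  Nonempty (G ≃* alternatingGroup (Fin 6)) ∨
  (∃ (F : Type) (_ : Field F) (_ : Fintype F), Fintype.card F ∈ ({4, 7, 8, 17} : Finset ℕ) ∧
    Nonempty (G ≃* Matrix.ProjectiveSpecialLinearGroup (Fin 2) F)) ∨
  (∃ (F : Type) (_ : Field F) (_ : Fintype F), Fintype.card F = 4 ∧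
    Nonempty (G ≃* Matrix.ProjectiveSpecialLinearGroup (Fin 3) F)) ∨
  (∃ (F : Type) (_ : Field F) (_ : Fintype F),
    (Fintype.card F = 8 ∧ Nonempty (G ≃* ↥(Cfsg.Lie.Sz F 4))) ∨
      (Fintype.card F = 32 ∧ Nonempty (G ≃* ↥(Cfsg.Lie.Sz F 8))))

variable {G : Type*} [Group G]

theorem two_group_centralizer [Finite G] (h : ∀ g : G, g ≠ 1 → IsPrimePow (orderOf g)) (t : G)
    (ht : orderOf t = 2) : IsPGroup 2 (Subgroup.centralizer ({t} : Set G)) := by
  rintro ⟨x, hx⟩
  have hc : Commute x t := Subgroup.mem_centralizer_singleton_iff.1 hx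
  rcases eq_or_ne x 1 with rfl | hx1
  · exact ⟨0, Subtype.ext (one_pow _)⟩
  obtain ⟨r, k, hr, hk0, hk⟩ := (isPrimePow_nat_iff _).1 (h x hx1)
  rcases eq_or_ne r 2 with rfl | hr2
  · exact ⟨k, Subtype.ext (by rw [SubgroupClass.coe_pow, Subgroup.coe_one]; exact hk ▸ pow_orderOf_eq_one x)⟩
  exfalso
  have hcop : (orderOf x).Coprime (orderOf t) := by
    rw [← hk, ht]
    exact ((Nat.coprime_primes hr Nat.prime_two).2 hr2).pow_left _
  have hxt : x * t ≠ 1 := fun e => by
    have := hc.orderOf_mul_eq_mul_orderOf_of_coprime hcop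
    rw [e, orderOf_one, ht] at this
    omega
  obtain ⟨s, l, hs, -, hl⟩ := (isPrimePow_nat_iff _).1 (h _ hxt)
  rw [hc.orderOf_mul_eq_mul_orderOf_of_coprime hcop, ← hk, ht] at hl
  have e2 : 2 = s := (Nat.prime_dvd_prime_iff_eq Nat.prime_two hs).1
    (Nat.prime_two.dvd_of_dvd_pow (hl ▸ dvd_mul_left 2 (r ^ k)))
  have e3 : r = s := (Nat.prime_dvd_prime_iff_eq hr hs).1
    (hr.dvd_of_dvd_pow (hl ▸ (dvd_pow_self r hk0.ne').trans (dvd_mul_right _ 2)))
  exact hr2 (e3.trans e2.symm)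

theorem isPrimePow_of_exists (h : ∀ g : G, g ≠ 1 → IsPrimePow (orderOf g)) {n : ℕ} (hn : 1 < n)
    (hx : ∃ x : G, orderOf x = n) : IsPrimePow n := by
  obtain ⟨x, rfl⟩ := hx
  exact h x fun e => by rw [e, orderOf_one] at hn; omega

theorem three_dvd_cases (q : ℕ) : 3 ∣ q ∨ 3 ∣ q + 1 ∨ 3 ∣ q + 2 := by omega

/-- The fields of `PSL(2,q)` of the list. -/
theorem psl_two_cases [Finite G] [IsSimpleGroup G] (h : ∀ g : G, g ≠ 1 → IsPrimePow (orderOf g))
    {F : Type} [Field F] [Fintype F]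
    (hq : Fintype.card F = 9 ∨ (∃ n : ℕ, Fintype.card F = 2 ^ n) ∨
      ((Fintype.card F).Prime ∧ ∃ k : ℕ, Fintype.card F = 2 ^ k + 1 ∨ Fintype.card F + 1 = 2 ^ k))
    (φ : G ≃* Matrix.ProjectiveSpecialLinearGroup (Fin 2) F) : PPList G := by
  classical
  have hlarge := CfsgLib.Perm.ZGroup.three_lt_of_simple_psl φ
  rcases hq with hq | ⟨n, hn⟩ | ⟨hpr, k, hk⟩
  · obtain ⟨e⟩ := Cfsg.Agent.S0254.result hq
    exact Or.inl ⟨φ.trans e⟩
  · obtain ⟨p, hp, hpF⟩ : ∃ p, p.Prime ∧ CharP F p := by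
      obtain ⟨p, hpF⟩ := CharP.exists F
      exact ⟨p, CharP.char_is_prime F p, hpF⟩
    haveI := Fact.mk hp
    have hg1 : Nat.gcd 2 (Fintype.card F - 1) = 1 := by
      obtain ⟨j, rfl⟩ : ∃ j, n = j + 1 := ⟨n - 1, by
        rcases Nat.eq_zero_or_pos n with rfl | h0
        · rw [hn] at hlarge; norm_num at hlarge
        · omega⟩
      rw [hn, pow_succ]
      have := Nat.one_le_two_pow (n := j)
      refine Nat.coprime_two_left.2 ⟨2 ^ j - 1, by omega⟩
    have hex : ∀ m ∈ ({p, Fintype.card F - 1, Fintype.card F + 1} : Set ℕ), 1 < m → IsPrimePow m := by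
      intro m hm h1
      refine isPrimePow_of_exists h h1 ?_
      obtain ⟨x, hx⟩ := CfsgLib.LocalEven.Spectrum.psl_exists (F := F) p m (by
        rw [hg1, Nat.div_one, Nat.div_one]; exact hm)
      exact ⟨φ.symm x, by rw [MulEquiv.orderOf_eq, hx]⟩
    rcases three_dvd_cases (Fintype.card F) with h3 | h3 | h3
    · rw [hn] at h3
      exact absurd (Nat.prime_three.dvd_of_dvd_pow h3) (by norm_num)
    · obtain ⟨j, hj⟩ := eq_pow_of_dvd Nat.prime_three (hex _ (by simp) (by omega)) h3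
      rw [hn] at hj hlarge
      rcases two_pow_add_one hj.symm with rfl | rfl
      · norm_num at hlarge
      · exact Or.inr (Or.inl ⟨F, inferInstance, inferInstance, by rw [hn]; decide, ⟨φ⟩⟩)
    · have h3' : 3 ∣ Fintype.card F - 1 := by omega
      obtain ⟨j, hj⟩ := eq_pow_of_dvd Nat.prime_three (hex _ (by simp) (by omega)) h3'
      rw [hn] at hj hlarge
      rcases two_pow_sub_one (n := n) (k := j) (by omega) with rfl | rfl
      · norm_num at hlarge
      · exact Or.inr (Or.inl ⟨F, inferInstance, inferInstance, by rw [hn]; decide, ⟨φ⟩⟩)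
  · haveI := Fact.mk hpr
    haveI : CharP F (Fintype.card F) := by
      obtain ⟨p, hpF⟩ := CharP.exists F
      haveI := Fact.mk (CharP.char_is_prime F p)
      obtain ⟨f, hp, hf⟩ := FiniteField.card F p
      have : p = Fintype.card F := by
        have := (Nat.prime_dvd_prime_iff_eq hp hpr).1 (by rw [hf]; exact dvd_pow_self p f.ne_zero)
        exact this
      rwa [← this]
    have hodd : Nat.gcd 2 (Fintype.card F - 1) = 2 := by
      refine Nat.gcd_eq_left ?_
      rcases hpr.eq_two_or_odd with h2 | h2 <;> omega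
    have hex : ∀ m ∈ ({(Fintype.card F - 1) / 2, (Fintype.card F + 1) / 2} : Set ℕ), 1 < m →
        IsPrimePow m := by
      intro m hm h1
      refine isPrimePow_of_exists h h1 ?_
      obtain ⟨x, hx⟩ := CfsgLib.LocalEven.Spectrum.psl_exists (F := F) (Fintype.card F) m (by
        rw [hodd]; exact Or.inr hm)
      exact ⟨φ.symm x, by rw [MulEquiv.orderOf_eq, hx]⟩
    obtain ⟨j, rfl⟩ : ∃ j, k = j + 1 := ⟨k - 1, by
      rcases Nat.eq_zero_or_pos k with rfl | h0
      · norm_num at hk; omega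
      · omega⟩
    rw [pow_succ] at hk
    have hn3 : ¬ 3 ∣ Fintype.card F := fun h3 => by
      have := (Nat.prime_dvd_prime_iff_eq Nat.prime_three hpr).1 h3
      omega
    rcases hk with hk | hk
    · have h3 : 3 ∣ (Fintype.card F + 1) / 2 := by
        have : ¬ 3 ∣ 2 ^ j := fun h3 => absurd (Nat.prime_three.dvd_of_dvd_pow h3) (by norm_num)
        rcases (show 2 ^ j % 3 = 1 ∨ 2 ^ j % 3 = 2 by omega) with e | e <;> omega
      obtain ⟨i, hi⟩ := eq_pow_of_dvd Nat.prime_three (hex _ (by simp) (by omega)) h3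
      rcases two_pow_add_one (n := j) (k := i) (by omega) with rfl | rfl
      · have h5 : Fintype.card F = 5 := by norm_num at hk; omega
        have h60 : Nat.card G = 60 := by
          have hc := CfsgLib.Perm.ZGroup.card_psl2_gcd (F := F)
          rw [← Nat.card_congr φ.toEquiv, h5] at hc
          norm_num at hc
          omega
        obtain ⟨e⟩ := Cfsg.Agent.S0494.result h60
        haveI : Fintype (GaloisField 2 2) := Fintype.ofFinite _
        have h4 : Fintype.card (GaloisField 2 2) = 4 := by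
          rw [← Nat.card_eq_fintype_card, GaloisField.card 2 2 two_ne_zero]; norm_num
        obtain ⟨e'⟩ := CfsgLib.Classical.Quat.psl2_four_equiv_alt h4
        exact Or.inr (Or.inl ⟨GaloisField 2 2, inferInstance, inferInstance, by rw [h4]; decide,
          ⟨e.trans e'.symm⟩⟩)
      · exact Or.inr (Or.inl ⟨F, inferInstance, inferInstance, by
          norm_num at hk; rw [hk]; decide, ⟨φ⟩⟩)
    · have h3 : 3 ∣ (Fintype.card F - 1) / 2 := by
        have : ¬ 3 ∣ 2 ^ j := fun h3 => absurd (Nat.prime_three.dvd_of_dvd_pow h3) (by norm_num)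
        rcases (show 2 ^ j % 3 = 1 ∨ 2 ^ j % 3 = 2 by omega) with e | e <;> omega
      obtain ⟨i, hi⟩ := eq_pow_of_dvd Nat.prime_three (hex _ (by simp) (by omega)) h3
      rcases two_pow_sub_one (n := j) (k := i) (by omega) with rfl | rfl
      · norm_num at hk; omega
      · exact Or.inr (Or.inl ⟨F, inferInstance, inferInstance, by
          norm_num at hk
          rw [show Fintype.card F = 7 by omega]; decide, ⟨φ⟩⟩)

/-- The fields of the Suzuki groups of the list. -/
theorem suzuki_cases [Finite G] (h : ∀ g : G, g ≠ 1 → IsPrimePow (orderOf g))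
    {F : Type} [Field F] [Fintype F] {m : ℕ} (hm : 1 ≤ m) (hF : Fintype.card F = 2 ^ (2 * m + 1))
    (φ : G ≃* ↥(Cfsg.Lie.Sz F (2 ^ (m + 1)))) : m = 1 ∨ m = 2 := by
  have hS := (CfsgLib.KnownB.Suzuki.szPartition
    (CfsgLib.KnownB.Suzuki.params_of_card hm hF)).congr φ.symm
  rw [hF] at hS
  have hq : 2 ^ (m + 1) * 2 ^ (m + 1) = 2 * 2 ^ (2 * m + 1) := by rw [← pow_add]; ring
  have h4 : 4 ≤ 2 ^ (m + 1) := by
    calc 4 = 2 ^ 2 := rfl
      _ ≤ _ := Nat.pow_le_pow_right (by norm_num) (by omega)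
  obtain ⟨A, hA⟩ : ∃ A, A = 2 ^ (2 * m + 1) := ⟨_, rfl⟩
  obtain ⟨B, hB⟩ : ∃ B, B = 2 ^ (m + 1) := ⟨_, rfl⟩
  rw [← hA, ← hB] at hq hS
  rw [← hB] at h4
  have hBA : 2 * B ≤ A := by nlinarith
  have hpp : ∀ k ∈ ({A + B + 1, A - B + 1} : Set ℕ), IsPrimePow k := by
    intro k hk
    obtain ⟨U, hcyc, hcard, -, -⟩ := hS.tori k hk
    obtain ⟨u, hu⟩ := hcyc.exists_generator
    refine isPrimePow_of_exists h (by rcases hk with rfl | rfl <;> omega) ⟨(u : G), ?_⟩
    rw [Subgroup.orderOf_coe, orderOf_eq_card_of_forall_mem_zpowers hu, hcard]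
  have h5 : 5 ∣ (A + B + 1) * (A - B + 1) := by
    have e : (A + B + 1) * (A - B + 1) = A * A + 1 := by
      zify [show B ≤ A by omega]
      have hq' : (B : ℤ) * B = 2 * A := by exact_mod_cast hq
      linear_combination -hq'
    rw [e, hA, ← pow_add, show 2 * m + 1 + (2 * m + 1) = 4 * m + 2 by ring, pow_add, pow_mul]
    rw [Nat.dvd_iff_mod_eq_zero, Nat.add_mod, Nat.mul_mod, Nat.pow_mod]
    norm_num
  rcases (Nat.Prime.dvd_mul (by norm_num : Nat.Prime 5)).1 h5 with h5 | h5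
  · obtain ⟨j, hj⟩ := eq_pow_of_dvd (by norm_num) (hpp _ (by simp)) h5
    exact five_pow hm (j := j) (Or.inl (by rw [← hA, ← hB]; omega))
  · obtain ⟨j, hj⟩ := eq_pow_of_dvd (by norm_num) (hpp _ (by simp)) h5
    exact five_pow hm (j := j) (Or.inr (by rw [← hA, ← hB]; omega))

/-- The list. -/
theorem classify [Finite G] [IsSimpleGroup G] (h : ∀ g : G, g ≠ 1 → IsPrimePow (orderOf g))
    (hlist : CITList G) : PPList G := by
  rcases hlist with ⟨F, _, _, hq, ⟨φ⟩⟩ | hL | ⟨F, _, _, m, hm, hF, ⟨φ⟩⟩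
  · exact psl_two_cases h hq φ
  · exact Or.inr (Or.inr (Or.inl hL))
  · rcases suzuki_cases h hm hF φ with rfl | rfl
    · exact Or.inr (Or.inr (Or.inr ⟨F, inferInstance, inferInstance, Or.inl ⟨hF, ⟨φ⟩⟩⟩))
    · exact Or.inr (Or.inr (Or.inr ⟨F, inferInstance, inferInstance, Or.inr ⟨hF, ⟨φ⟩⟩⟩))

end CfsgLib.Recognition.PrimePowerSimple
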