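import Mathlib

/-!
Prime powers of the forms `2 ^ n ± 1` and `2 ^ (2 m + 1) ± 2 ^ (m + 1) + 1`.
-/

set_option autoImplicit false

namespace CfsgLib.Recognition.PrimePowerSimple

/-- A prime power divisible by the prime `r` is a power of `r`. -/
theorem eq_pow_of_dvd {a r : ℕ} (hr : r.Prime) (h : IsPrimePow a) (hd : r ∣ a) : ∃ k, a = r ^ k := by
  obtain ⟨s, k, hs, -, rfl⟩ := (isPrimePow_nat_iff _).1 h
  exact ⟨k, by rw [(Nat.prime_dvd_prime_iff_eq hr hs).1 (hr.dvd_of_dvd_pow hd)]⟩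

theorem two_pow_add_one {n k : ℕ} (h : 3 ^ k = 2 ^ n + 1) : n = 1 ∨ n = 3 := by
  rcases Nat.lt_or_ge n 2 with hn | hn
  · interval_cases n
    · exfalso
      rcases Nat.eq_zero_or_pos k with rfl | hk
      · norm_num at h
      · have : 3 ∣ 3 ^ k := dvd_pow_self 3 hk.ne'
        norm_num at h
        omega
    · exact Or.inl rfl
  refine Or.inr ?_
  have h4 : 3 ^ k % 4 = 1 := by
    obtain ⟨j, rfl⟩ : ∃ j, n = j + 2 := ⟨n - 2, by omega⟩
    rw [h, pow_add]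
    omega
  obtain ⟨j, rfl⟩ : 2 ∣ k := by
    by_contra hk
    obtain ⟨j, rfl⟩ : ∃ j, k = 2 * j + 1 := ⟨k / 2, by omega⟩
    rw [pow_succ, pow_mul, Nat.mul_mod, Nat.pow_mod] at h4
    norm_num at h4
  obtain ⟨x, hx, hx3⟩ : ∃ x, x = 3 ^ j ∧ 1 ≤ x := ⟨_, rfl, Nat.one_le_pow _ _ (by norm_num)⟩
  have hsq : x * x = 2 ^ n + 1 := by rw [hx, ← pow_add, ← two_mul, h]
  have hfac : (x - 1) * (x + 1) = 2 ^ n := by
    zify [hx3] at hsq ⊢
    linarith
  obtain ⟨a, -, ha⟩ := (Nat.dvd_prime_pow Nat.prime_two).1 (Dvd.intro _ hfac)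
  obtain ⟨b, -, hb⟩ := (Nat.dvd_prime_pow Nat.prime_two).1 (Dvd.intro_left _ hfac)
  have hab : 2 ^ b = 2 ^ a + 2 := by omega
  have ha1 : a = 1 := by
    rcases Nat.lt_or_ge a 2 with ha2 | ha2
    · interval_cases a
      · rcases Nat.lt_or_ge b 2 with hb2 | hb2
        · interval_cases b <;> norm_num at hab
        · obtain ⟨c, rfl⟩ : ∃ c, b = c + 2 := ⟨b - 2, by omega⟩
          rw [pow_add] at hab
          omega
      · rfl
    · exfalso
      obtain ⟨c, rfl⟩ : ∃ c, a = c + 2 := ⟨a - 2, by omega⟩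
      rcases Nat.lt_or_ge b 2 with hb2 | hb2
      · rw [pow_add] at hab
        have := Nat.one_le_two_pow (n := c)
        interval_cases b <;> norm_num at hab
      · obtain ⟨d, rfl⟩ : ∃ d, b = d + 2 := ⟨b - 2, by omega⟩
        rw [pow_add, pow_add] at hab
        omega
  subst ha1
  have hx2 : x = 3 := by omega
  subst hx2
  norm_num at hsq
  exact (Nat.pow_right_injective le_rfl (show (2 : ℕ) ^ n = 2 ^ 3 by omega))

theorem two_pow_sub_one {n k : ℕ} (h : 3 ^ k + 1 = 2 ^ n) : n = 1 ∨ n = 2 := by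
  rcases Nat.lt_or_ge n 3 with hn | hn
  · rcases Nat.eq_zero_or_pos n with rfl | hn0
    · exfalso
      have := Nat.one_le_pow k 3 (by norm_num)
      norm_num at h
    · omega
  exfalso
  obtain ⟨j, rfl⟩ : ∃ j, n = j + 3 := ⟨n - 3, by omega⟩
  have h8 : 3 ^ k % 8 = 1 ∨ 3 ^ k % 8 = 3 := by
    clear h
    induction k with
    | zero => norm_num
    | succ k ih => rw [pow_succ]; omega
  rw [pow_add] at h
  omega

/-- The two odd orders that occur only for `m ≤ 2`. -/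
theorem five_pow {m j : ℕ} (hm : 1 ≤ m)
    (h : 5 ^ j = 2 ^ (2 * m + 1) + 2 ^ (m + 1) + 1 ∨ 5 ^ j + 2 ^ (m + 1) = 2 ^ (2 * m + 1) + 1) :
    m = 1 ∨ m = 2 := by
  by_contra hcon
  obtain ⟨i, rfl⟩ : ∃ i, m = i + 3 := ⟨m - 3, by omega⟩
  have e1 : 2 ^ (2 * (i + 3) + 1) = 128 * (2 ^ i * 2 ^ i) := by
    rw [← pow_add, show 2 * (i + 3) + 1 = 7 + (i + i) by omega, pow_add]; norm_num
  have e2 : 2 ^ (i + 3 + 1) = 16 * 2 ^ i := by
    rw [show i + 3 + 1 = 4 + i by omega, pow_add]; norm_num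
  rw [e1, e2] at h
  have hP := Nat.one_le_two_pow (n := i)
  obtain ⟨P, hPdef⟩ : ∃ P, P = 2 ^ i := ⟨_, rfl⟩
  rw [← hPdef] at h hP
  -- the exponent is even
  obtain ⟨i', rfl⟩ : 2 ∣ j := by
    by_contra hj
    obtain ⟨i', rfl⟩ : ∃ i', j = 2 * i' + 1 := ⟨j / 2, by omega⟩
    rw [pow_succ, pow_mul] at h
    have : (5 ^ 2) ^ i' % 8 = 1 := by rw [Nat.pow_mod]; norm_num
    have hd : ∀ t, (16 * t) % 8 = 0 := fun t => by omega
    have h16 : (128 * (P * P)) % 8 = 0 := by omega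
    omega
  obtain ⟨x, hx⟩ : ∃ x, x = 5 ^ i' := ⟨_, rfl⟩
  have hxx : 5 ^ (2 * i') = x * x := by rw [hx, ← pow_add, ← two_mul]
  rw [hxx] at h
  have hx4 : x % 4 = 1 := by rw [hx, Nat.pow_mod]; norm_num
  obtain ⟨y, hy⟩ : ∃ y, x = 4 * y + 1 := ⟨x / 4, by omega⟩
  subst hy
  -- `y (2 y + 1) = 2 P (8 P ± 1)`
  have h' : y * (2 * y + 1) = 2 * P * (8 * P + 1) ∨ y * (2 * y + 1) + 2 * P = 16 * (P * P) := by
    rcases h with h | h
    · left; nlinarith
    · right; nlinarith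
  have hcop : Nat.Coprime (2 * P) (2 * y + 1) := by
    rw [hPdef, ← pow_succ']
    exact (Nat.coprime_two_left.2 ⟨y, rfl⟩).pow_left _
  have hdvd : 2 * P ∣ y := by
    refine hcop.dvd_of_dvd_mul_right ?_
    rcases h' with h' | h'
    · rw [h']; exact Dvd.intro _ rfl
    · have e : y * (2 * y + 1) = 2 * P * (8 * P - 1) := by
        rw [Nat.mul_sub, mul_one, show 2 * P * (8 * P) = 16 * (P * P) by ring]
        omega
      rw [e]; exact Dvd.intro _ rfl
  obtain ⟨c, rfl⟩ := hdvd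
  rcases Nat.eq_zero_or_pos c with rfl | hc
  · rcases h' with h' | h' <;> simp at h' <;> nlinarith
  rcases Nat.lt_or_ge c 2 with hc2 | hc2
  · obtain rfl : c = 1 := by omega
    rcases h' with h' | h' <;> nlinarith
  · have hcc : 4 * (P * P) ≤ c * c * (P * P) := Nat.mul_le_mul_right _ (by nlinarith)
    rcases h' with h' | h' <;> nlinarith

end CfsgLib.Recognition.PrimePowerSimple
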