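import Cfsg.Agent.S3992
import Mathlib.GroupTheory.Sylow

/-!
A normal subgroup of order `r * N` with a self-centralising Sylow subgroup of order `r` in a group all
whose elements have prime power order.
-/

set_option autoImplicit false

namespace CfsgLib.Recognition.PrimePowerSimple

variable {H : Type*} [Group H] [Finite H]

theorem eq_top_of_sylow (h : ∀ g : H, g ≠ 1 → IsPrimePow (orderOf g)) (M : Subgroup H) [M.Normal]
    (r : ℕ) [Fact r.Prime] (N : ℕ) (hM : Nat.card M = r * N) (hrN : ¬ r ∣ N) (hk : 1 < N % r)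
    (hdiv : ∀ t, t ∣ r - 1 → IsPrimePow t → N % r ∣ t → t = N % r) : M = ⊤ := by
  classical
  have hr : r.Prime := Fact.out
  obtain ⟨x₀, hx₀⟩ := exists_prime_orderOf_dvd_card' (G := M) r (hM ▸ dvd_mul_right r N)
  set x : H := (x₀ : H) with hxdef
  have hx : orderOf x = r := by rw [hxdef, Subgroup.orderOf_coe, hx₀]
  set P : Subgroup H := Subgroup.zpowers x with hP
  have hPM : P ≤ M := Subgroup.zpowers_le.2 x₀.2
  have hPcard : Nat.card P = r := by rw [hP, Nat.card_zpowers, hx]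
  set NH := Subgroup.normalizer (P : Set H) with hNH
  -- the Sylow subgroup of `M`
  have hPMcard : Nat.card (P.subgroupOf M) = r := by
    rw [Nat.card_congr (Subgroup.subgroupOfEquivOfLe hPM).toEquiv, hPcard]
  let S : Sylow r M := Sylow.ofCard (P.subgroupOf M) (by
    have hN0 : N ≠ 0 := fun e => by rw [e] at hrN; exact hrN (dvd_zero r)
    rw [hPMcard, hM, Nat.factorization_mul hr.ne_zero hN0, Finsupp.add_apply, hr.factorization_self,
      Nat.factorization_eq_zero_of_not_dvd hrN, add_zero, pow_one])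
  have hS : (S : Subgroup M) = P.subgroupOf M := rfl
  have hsup : NH ⊔ M = ⊤ := by
    have := Sylow.normalizer_sup_eq_top S
    rwa [hS, Subgroup.map_subgroupOf_eq_of_le hPM] at this
  -- counting Sylow subgroups
  obtain ⟨k, hk0, hkmod⟩ : ∃ k, Nat.card (NH.subgroupOf M) = r * k ∧ k ≡ N [MOD r] := by
    have hsub : P.subgroupOf M ≤ NH.subgroupOf M := fun y hy => Subgroup.le_normalizer hy
    obtain ⟨k, hkk⟩ := Subgroup.card_dvd_of_le hsub
    rw [hPMcard] at hkk
    refine ⟨k, hkk, ?_⟩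
    have hn : Nat.card (Sylow r M) * Nat.card (NH.subgroupOf M) = Nat.card M := by
      have hnorm : Subgroup.normalizer (S : Set M) = NH.subgroupOf M := by
        change Subgroup.normalizer ((P.subgroupOf M : Subgroup M) : Set M) = _
        rw [hNH, Subgroup.subgroupOf_normalizer_eq hPM]
      rw [Sylow.card_eq_index_normalizer S, hnorm]
      exact Subgroup.index_mul_card _
    rw [hkk, hM] at hn
    have hnk : Nat.card (Sylow r M) * k = N := Nat.eq_of_mul_eq_mul_left hr.pos (by linarith)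
    calc k = 1 * k := (one_mul k).symm
      _ ≡ Nat.card (Sylow r M) * k [MOD r] := Nat.ModEq.mul_right k (card_sylow_modEq_one r M).symm
      _ = N := hnk
  have hNM : Nat.card (M.subgroupOf NH) = r * k := by
    rw [← hk0, ← Subgroup.card_map_of_injective M.subtype_injective,
      Subgroup.subgroupOf_map_subtype, ← Subgroup.card_map_of_injective NH.subtype_injective,
      Subgroup.subgroupOf_map_subtype, inf_comm]
  -- the centraliser
  set C := Subgroup.centralizer (P : Set H) with hC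
  have hPC : P ≤ C := by
    intro y hy
    rw [hC, Subgroup.mem_centralizer_iff]
    intro z hz
    obtain ⟨i, rfl⟩ := Subgroup.mem_zpowers_iff.1 hy
    obtain ⟨j, rfl⟩ := Subgroup.mem_zpowers_iff.1 hz
    exact ((Commute.refl x).zpow_zpow j i).eq
  have hCr : IsPGroup r C := by
    rintro ⟨c, hc⟩
    rcases eq_or_ne c 1 with rfl | hc1
    · exact ⟨0, Subtype.ext (one_pow _)⟩
    obtain ⟨s, a, hs, ha0, ha⟩ := (isPrimePow_nat_iff _).1 (h c hc1)
    rcases eq_or_ne s r with rfl | hsr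
    · exact ⟨a, Subtype.ext (by rw [SubgroupClass.coe_pow, Subgroup.coe_one, ha, pow_orderOf_eq_one])⟩
    exfalso
    have ho : orderOf (c ^ (orderOf c / s)) = s :=
      orderOf_pow_orderOf_div (orderOf_pos c).ne' (ha ▸ dvd_pow_self s ha0.ne')
    exact Cfsg.Agent.S3992.no_pair h
      (Commute.pow_left ((Subgroup.mem_centralizer_iff.1 hc x (Subgroup.mem_zpowers x)).symm) _)
      hs hr hsr ho hx
  have hCM : Nat.card (C ⊓ M : Subgroup H) ≤ r := by
    obtain ⟨a, ha⟩ := IsPGroup.iff_card.1 (hCr.to_le (inf_le_left : C ⊓ M ≤ C))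
    have hd : Nat.card (C ⊓ M : Subgroup H) ∣ Nat.card M := Subgroup.card_dvd_of_le inf_le_right
    rw [ha, hM] at hd
    rcases Nat.lt_or_ge a 2 with ha2 | ha2
    · rw [ha]
      calc r ^ a ≤ r ^ 1 := Nat.pow_le_pow_right hr.pos (by omega)
        _ = r := pow_one r
    · exfalso
      obtain ⟨b, rfl⟩ : ∃ b, a = b + 2 := ⟨a - 2, by omega⟩
      rw [pow_succ'] at hd
      exact hrN ((dvd_pow_self r (by omega)).trans (Nat.dvd_of_mul_dvd_mul_left hr.pos hd))
  -- an element of `M` acting on `P`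
  have hk1 : k % r = N % r := hkmod
  obtain ⟨s, hs, hsk⟩ := Nat.exists_prime_and_dvd (n := k) (fun e => by
    rw [e, Nat.one_mod_eq_one.2 hr.ne_one] at hk1; omega)
  have hsr : s ≠ r := by
    rintro rfl
    rw [Nat.mod_eq_zero_of_dvd] at hk1
    · omega
    · exact hsk
  have := Fact.mk hs
  obtain ⟨y₀, hy₀⟩ := exists_prime_orderOf_dvd_card' (G := M.subgroupOf NH) s
    (hNM ▸ hsk.trans (dvd_mul_left k r))
  set y : H := ((y₀ : NH) : H) with hydef
  have hy : orderOf y = s := by rw [hydef, Subgroup.orderOf_coe, Subgroup.orderOf_coe, hy₀]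
  have hyM : y ∈ M := y₀.2
  have hyN : y ∈ NH := (y₀ : NH).2
  have hCN : C ≤ NH := Subgroup.centralizer_le_normalizer _
  have hyC : ∀ c ∈ C, y * c * y⁻¹ ∈ C := by
    intro c hc
    rw [hC, Subgroup.mem_centralizer_iff] at hc ⊢
    intro z hz
    have hz' : y⁻¹ * z * y ∈ P := by
      have := (Subgroup.mem_normalizer_iff.1 (NH.inv_mem hyN) z).1 hz
      rwa [inv_inv] at this
    calc z * (y * c * y⁻¹) = y * ((y⁻¹ * z * y) * c) * y⁻¹ := by group
      _ = y * (c * (y⁻¹ * z * y)) * y⁻¹ := by rw [hc _ hz']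
      _ = _ := by group
  have hCcard : Nat.card C ≤ r := by
    refine le_trans (Nat.card_le_card_of_injective
      (fun c : C => (⟨y * c * y⁻¹ * (c : H)⁻¹, C.mul_mem (hyC _ c.2) (C.inv_mem c.2), by
        have h1 := (inferInstance : M.Normal).conj_mem _ (M.inv_mem hyM) c
        have h2 := M.mul_mem hyM h1
        simpa [mul_assoc] using h2⟩ : (C ⊓ M : Subgroup H))) ?_) hCM
    intro c d hcd
    have hcd' : y * c * y⁻¹ * (c : H)⁻¹ = y * d * y⁻¹ * (d : H)⁻¹ := congrArg Subtype.val hcd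
    have hfix : y * ((d : H)⁻¹ * c) * y⁻¹ = (d : H)⁻¹ * c := by
      calc y * ((d : H)⁻¹ * c) * y⁻¹
          = (y * d * y⁻¹)⁻¹ * ((y * c * y⁻¹ * (c : H)⁻¹) * c) := by group
        _ = (y * d * y⁻¹)⁻¹ * ((y * d * y⁻¹ * (d : H)⁻¹) * c) := by rw [hcd']
        _ = _ := by group
    by_contra hne
    have hu1 : (d : H)⁻¹ * c ≠ 1 := fun e => hne (Subtype.ext (inv_mul_eq_one.1 e).symm)
    obtain ⟨a, ha⟩ := hCr ⟨(d : H)⁻¹ * c, C.mul_mem (C.inv_mem d.2) c.2⟩
    obtain ⟨b, -, hb⟩ := (Nat.dvd_prime_pow hr).1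
      (orderOf_dvd_of_pow_eq_one (congrArg Subtype.val ha : ((d : H)⁻¹ * c) ^ r ^ a = 1))
    have hb0 : b ≠ 0 := fun e => hu1 (orderOf_eq_one_iff.1 (by rw [hb, e, pow_zero]))
    have ho : orderOf (((d : H)⁻¹ * c) ^ (orderOf ((d : H)⁻¹ * c) / r)) = r :=
      orderOf_pow_orderOf_div (orderOf_pos _).ne' (hb ▸ dvd_pow_self r hb0)
    exact Cfsg.Agent.S3992.no_pair h (Commute.pow_left
      ((mul_inv_eq_iff_eq_mul.1 hfix).symm : Commute ((d : H)⁻¹ * c) y) _) hr hs hsr.symm ho hy
  have hCP : Nat.card C = r := le_antisymm hCcard (hPcard ▸ Nat.le_of_dvd Nat.card_pos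
    (Subgroup.card_dvd_of_le hPC))
  -- the automiser
  let φ : NH →* MulAut P := P.normalizerMonoidHom
  have hφker : φ.ker = C.subgroupOf NH := P.normalizerMonoidHom_ker
  have hcycP : IsCyclic P := ⟨⟨x, Subgroup.mem_zpowers x⟩, fun z => by
    obtain ⟨i, hi⟩ := Subgroup.mem_zpowers_iff.1 z.2
    exact ⟨i, Subtype.ext hi⟩⟩
  obtain ⟨t, ht⟩ : ∃ t, Nat.card φ.range = t := ⟨_, rfl⟩
  have hNHcard : Nat.card NH = t * r := by
    rw [← φ.ker.index_mul_card, Subgroup.index_ker, ht, hφker,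
      Nat.card_congr (Subgroup.subgroupOfEquivOfLe hCN).toEquiv, hCP]
  have htdvd : t ∣ r - 1 := by
    rw [← ht]
    refine (Subgroup.card_subgroup_dvd_card φ.range).trans ?_
    have hu : ∀ n, n = r → Nat.card (ZMod n)ˣ = r - 1 := by
      rintro n rfl
      rw [Nat.card_eq_fintype_card, ZMod.card_units]
    rw [Nat.card_congr (IsCyclic.mulAutMulEquiv P).toEquiv, hu _ hPcard]
  obtain ⟨d, hd⟩ : k ∣ t := by
    have := Subgroup.card_subgroup_dvd_card (M.subgroupOf NH)
    rw [hNM, hNHcard, mul_comm t r] at this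
    exact Nat.dvd_of_mul_dvd_mul_left hr.pos this
  have ht0 : 0 < t := by rw [← ht]; exact Nat.card_pos
  have hklt : k < r := by
    have h1 := Nat.le_of_dvd (by have := hr.two_le; omega) htdvd
    have h2 : k ≤ t := Nat.le_of_dvd ht0 ⟨d, hd⟩
    omega
  rw [Nat.mod_eq_of_lt hklt] at hk1
  have htpp : IsPrimePow t := by
    have : IsCyclic (MulAut P) :=
      (MulEquiv.isCyclic (IsCyclic.mulAutMulEquiv P)).2 (by rw [hPcard]; exact ZMod.isCyclic_units_prime hr)
    obtain ⟨g, hg⟩ := (Subgroup.isCyclic φ.range).exists_generator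
    obtain ⟨g₀, hg₀⟩ := g.2
    have ho : orderOf g = t := by rw [orderOf_eq_card_of_forall_mem_zpowers hg, ht]
    have hdvd : t ∣ orderOf ((g₀ : NH) : H) := by
      rw [← ho, ← Subgroup.orderOf_coe g, ← hg₀, Subgroup.orderOf_coe]
      exact orderOf_map_dvd φ g₀
    have ht1 : 1 < t := by
      have : k ≤ t := Nat.le_of_dvd ht0 ⟨d, hd⟩
      omega
    refine (h _ fun e => ?_).dvd hdvd (by omega)
    rw [e, orderOf_one, Nat.dvd_one] at hdvd
    omega
  have htk : t = k := by rw [hk1]; exact hdiv t htdvd htpp (hk1 ▸ ⟨d, hd⟩)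
  -- conclusion
  have hle : NH ≤ M := by
    have he : Nat.card (M.subgroupOf NH) = Nat.card NH := by rw [hNM, hNHcard, htk, mul_comm]
    exact Subgroup.subgroupOf_eq_top.1 (Subgroup.eq_top_of_card_eq _ he)
  rw [sup_of_le_right hle] at hsup
  exact hsup

end CfsgLib.Recognition.PrimePowerSimple
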