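import Cfsg.Agent.Lib.Recognition.PrimePowerSimple.Main
import Cfsg.Agent.Lib.Recognition.PrimePowerSimple.IndexTrick
import Cfsg.Agent.Lib.Recognition.OneToFive.Basic
import Cfsg.Agent.Lib.Solvable.FPFNilpotent
import Cfsg.Agent.Lib.SmallGroups.M21
import Cfsg.Agent.S0204
import Cfsg.Agent.S1475

/-!
Prime divisors of a group all whose elements have prime power order.
-/

set_option autoImplicit false
set_option linter.style.haveILetI false

namespace CfsgLib.Recognition.PrimePowerSimple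

universe u

/-- A normal `p`-subgroup is trivial if the quotient has a non-cyclic abelian `s`-subgroup, `s ≠ p`. -/
theorem eq_bot_of_noncyclic {G : Type*} [Group G] [Finite G]
    (h : ∀ g : G, g ≠ 1 → IsPrimePow (orderOf g)) {p s : ℕ} (hp : p.Prime) (hs : s.Prime) (hps : p ≠ s)
    (R : Subgroup G) [R.Normal] (hR : IsPGroup p R) (U : Subgroup (G ⧸ R)) (hU : IsPGroup s U)
    (hUc : IsMulCommutative U) (hnc : ¬ IsCyclic U) : R = ⊥ := by
  haveI := Fact.mk hp
  haveI := Fact.mk hs
  by_contra hR0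
  obtain ⟨Q, hQ, hQU⟩ := CfsgLib.KnownA.AbelianSylow.exists_pgroup_map_eq
    (QuotientGroup.mk'_surjective R) hU
  have hQR : ∀ x ∈ Q, x ∈ R → x = 1 := fun x hx hxR => by
    have hd : R ⊓ Q = ⊥ := disjoint_iff.mp (hR.disjoint_of_ne p s hps _ _ hQ)
    have h2 : x ∈ R ⊓ Q := ⟨hxR, hx⟩
    rwa [hd, Subgroup.mem_bot] at h2
  have hQc : IsMulCommutative Q := by
    rw [CfsgLib.Solvable.Basic.isMulCommutative_subgroup_iff]
    intro a ha b hb
    refine mul_inv_eq_one.mp (hQR _ (mul_mem (mul_mem ha hb) (inv_mem (mul_mem hb ha)))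
      ((QuotientGroup.eq_one_iff _).mp ?_))
    have h1 := CfsgLib.Solvable.Basic.isMulCommutative_subgroup_iff.mp hUc _
      (hQU ▸ Subgroup.mem_map_of_mem _ ha) _ (hQU ▸ Subgroup.mem_map_of_mem _ hb)
    rw [← map_mul, ← map_mul] at h1
    show QuotientGroup.mk' R (a * b * (b * a)⁻¹) = 1
    rw [map_mul, h1, map_inv, mul_inv_cancel]
  have hfpf : ∀ a ∈ Q, a ≠ 1 → R ⊓ Subgroup.centralizer {a} = ⊥ := by
    intro a ha ha1
    refine (Subgroup.eq_bot_iff_forall _).2 fun d hd => ?_
    by_contra hd1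
    obtain ⟨i, hi⟩ := hR ⟨d, hd.1⟩
    obtain ⟨j, hj⟩ := hQ ⟨a, ha⟩
    obtain ⟨i', -, hi'⟩ := (Nat.dvd_prime_pow hp).1
      (orderOf_dvd_of_pow_eq_one (congrArg Subtype.val hi : d ^ p ^ i = 1))
    obtain ⟨j', -, hj'⟩ := (Nat.dvd_prime_pow hs).1
      (orderOf_dvd_of_pow_eq_one (congrArg Subtype.val hj : a ^ s ^ j = 1))
    have hpd : p ∣ orderOf d := hi' ▸ dvd_pow_self p
      fun e => hd1 (orderOf_eq_one_iff.1 (by rw [hi', e, pow_zero]))
    have hsa : s ∣ orderOf a := hj' ▸ dvd_pow_self s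
      fun e => ha1 (orderOf_eq_one_iff.1 (by rw [hj', e, pow_zero]))
    exact Cfsg.Agent.S3992.no_pair h
      (Commute.pow_pow (Subgroup.mem_centralizer_singleton_iff.1 hd.2) _ _) hp hs hps
      (orderOf_pow_orderOf_div (orderOf_pos d).ne' hpd) (orderOf_pow_orderOf_div (orderOf_pos a).ne' hsa)
  have hQcyc : IsCyclic Q := CfsgLib.FrobRealize.FPF.isCyclic_of_comm hR0
    (by rw [Subgroup.normalizer_eq_top]; exact le_top) hfpf hQc
  exact hnc (hQU ▸ isCyclic_of_surjective _ ((QuotientGroup.mk' R).subgroupMap_surjective Q))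

/-- A simple normal subgroup carries all the primes of the group. -/
theorem dvd_card_simple {H : Type*} [Group H] [Finite H]
    (h : ∀ g : H, g ≠ 1 → IsPrimePow (orderOf g)) (M : Subgroup H) [M.Normal] [IsSimpleGroup M]
    (hM : ¬ IsMulCommutative M) {s : ℕ} (hs : s.Prime) (hsH : s ∣ Nat.card H) : s ∣ Nat.card M := by
  haveI := Fact.mk hs
  by_contra hsM
  obtain ⟨x, hx⟩ := exists_prime_orderOf_dvd_card' s hsH
  have hfix : ∀ m : M, (MulAut.conjNormal x : MulAut M) m = m → m = 1 := by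
    intro m hm
    by_contra hm1
    have hc : Commute (m : H) x := by
      have h1 := congrArg Subtype.val hm
      rw [MulAut.conjNormal_apply] at h1
      exact (mul_inv_eq_iff_eq_mul.1 h1).symm
    obtain ⟨r, hr, hrd⟩ := Nat.exists_prime_and_dvd (n := orderOf (m : H))
      fun e => hm1 (Subtype.ext (orderOf_eq_one_iff.1 e))
    have hrs : r ≠ s := fun e => hsM (e ▸ hrd.trans (by rw [Subgroup.orderOf_coe]; exact orderOf_dvd_natCard m))
    exact Cfsg.Agent.S3992.no_pair h (Commute.pow_left hc _) hr hs hrs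
      (orderOf_pow_orderOf_div (orderOf_pos _).ne' hrd) hx
  have hnil : Group.IsNilpotent M := CfsgLib.Solvable.FPFNilpotent.isNilpotent_of_mulAut hs
    (MulAut.conjNormal x : MulAut M) (by rw [← map_pow, ← hx, pow_orderOf_eq_one, map_one]) hfix
  have hsol : Group.IsSolvable M := inferInstance
  exact hM (isMulCommutative_iff.2 (IsSimpleGroup.comm_iff_isSolvable.2 hsol))

open Matrix in
/-- `PSL(3,4)` has a non-cyclic abelian subgroup of exponent three. -/
theorem psl34_noncyclic (F : Type) [Field F] [Fintype F] (hF : Fintype.card F = 4) :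
    ∃ U : Subgroup (Matrix.ProjectiveSpecialLinearGroup (Fin 3) F),
      IsPGroup 3 U ∧ IsMulCommutative U ∧ ¬ IsCyclic U := by
  classical
  haveI : Fact (Nat.Prime 3) := ⟨Nat.prime_three⟩
  obtain ⟨w, hw⟩ := exists_prime_orderOf_dvd_card' (G := Fˣ) 3
    (by rw [Nat.card_eq_fintype_card, Fintype.card_units, hF])
  have hw3 : (w : F) ^ 3 = 1 := by
    rw [← Units.val_pow_eq_pow_val, ← hw, pow_orderOf_eq_one, Units.val_one]
  have hw1 : (w : F) ≠ 1 := fun e => by
    rw [Units.val_eq_one.1 e, orderOf_one] at hw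
    norm_num at hw
  let a : Matrix.SpecialLinearGroup (Fin 3) F := ⟨diagonal ![1, (w : F), (w : F) ^ 2], by
    rw [det_diagonal, Fin.prod_univ_three]
    simp [← pow_succ', hw3]⟩
  let b : Matrix.SpecialLinearGroup (Fin 3) F := ⟨!![0, 1, 0; 0, 0, 1; 1, 0, 0], by simp [det_fin_three]⟩
  let z : Matrix.SpecialLinearGroup (Fin 3) F := ⟨scalar (Fin 3) (w : F), by simp [hw3]⟩
  have hz : z ∈ Subgroup.center (Matrix.SpecialLinearGroup (Fin 3) F) :=
    Matrix.SpecialLinearGroup.mem_center_iff.2 ⟨(w : F), by simpa using hw3, rfl⟩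
  let π := QuotientGroup.mk' (Subgroup.center (Matrix.SpecialLinearGroup (Fin 3) F))
  have hcomm : π b * π a = π a * π b := by
    have e : b * a = z * (a * b) := by
      refine Subtype.ext ?_
      show b.1 * a.1 = z.1 * (a.1 * b.1)
      simp only [a, b, z]
      ext i j
      fin_cases i <;> fin_cases j <;> simp [Matrix.mul_apply, Fin.sum_univ_three] <;>
        first | linear_combination (-hw3) | linear_combination hw3 | ring
    rw [← map_mul, ← map_mul, e, map_mul, show π z = 1 from (QuotientGroup.eq_one_iff z).2 hz, one_mul]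
  have ha3 : π a ^ 3 = 1 := by
    rw [← map_pow]
    refine (QuotientGroup.eq_one_iff _).2 ?_
    convert Subgroup.one_mem (Subgroup.center (Matrix.SpecialLinearGroup (Fin 3) F))
    refine Subtype.ext ?_
    rw [Matrix.SpecialLinearGroup.coe_pow, Matrix.SpecialLinearGroup.coe_one]
    simp only [a, diagonal_pow]
    ext i j
    fin_cases i <;> fin_cases j <;> simp [pow_succ] <;>
      first | linear_combination hw3 | linear_combination ((w : F) ^ 3 + 1) * hw3
  have hb3 : π b ^ 3 = 1 := by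
    rw [← map_pow]
    refine (QuotientGroup.eq_one_iff _).2 ?_
    convert Subgroup.one_mem (Subgroup.center (Matrix.SpecialLinearGroup (Fin 3) F))
    refine Subtype.ext ?_
    rw [Matrix.SpecialLinearGroup.coe_pow, Matrix.SpecialLinearGroup.coe_one]
    simp only [b, pow_succ, pow_zero, one_mul]
    ext i j
    fin_cases i <;> fin_cases j <;> simp [Matrix.mul_apply, Fin.sum_univ_three]
  set U := Subgroup.closure ({π a, π b} : Set (ProjectiveSpecialLinearGroup (Fin 3) F)) with hU
  have hc : ∀ x ∈ U, ∀ y ∈ U, x * y = y * x := by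
    have hgen : ∀ x ∈ ({π a, π b} : Set (ProjectiveSpecialLinearGroup (Fin 3) F)),
        ∀ y ∈ ({π a, π b} : Set (ProjectiveSpecialLinearGroup (Fin 3) F)), x * y = y * x := by
      rintro x (rfl | rfl) y (rfl | rfl)
      exacts [rfl, hcomm.symm, hcomm, rfl]
    haveI := Subgroup.isMulCommutative_closure hgen
    exact fun x hx y hy => congrArg Subtype.val
      ((isMulCommutative_iff.1 this) ⟨x, hx⟩ ⟨y, hy⟩)
  have hexp : ∀ x ∈ U, x ^ 3 = 1 := by
    intro x hx
    induction hx using Subgroup.closure_induction with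
    | mem y hy => rcases hy with rfl | rfl <;> assumption
    | one => exact one_pow 3
    | mul y z hy hz ey ez => rw [Commute.mul_pow (hc y hy z hz), ey, ez, one_mul]
    | inv y hy ey => rw [inv_pow, ey, inv_one]
  refine ⟨U, fun x => ⟨1, Subtype.ext (by rw [pow_one]; exact hexp _ x.2)⟩,
    CfsgLib.Solvable.Basic.isMulCommutative_subgroup_iff.2 hc, fun hcyc => ?_⟩
  obtain ⟨g, hg⟩ := hcyc.exists_generator
  have hcard : Nat.card U ∣ 3 := by
    rw [← orderOf_eq_card_of_forall_mem_zpowers hg]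
    exact orderOf_dvd_of_pow_eq_one (Subtype.ext (hexp _ g.2))
  have ha1 : π a ≠ 1 := fun e => by
    obtain ⟨r, -, hr⟩ := Matrix.SpecialLinearGroup.mem_center_iff.1 ((QuotientGroup.eq_one_iff a).1 e)
    have h0 : r = 1 := by simpa [a] using congrFun (congrFun hr 0) 0
    have h1 : r = (w : F) := by simpa [a] using congrFun (congrFun hr 1) 1
    exact hw1 (h1.symm.trans h0)
  have hle : Subgroup.zpowers (π a) ≤ U := Subgroup.zpowers_le.2 (Subgroup.subset_closure (by simp))
  have hzc : Nat.card (Subgroup.zpowers (π a)) = 3 := by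
    rw [Nat.card_zpowers]
    exact orderOf_eq_prime ha3 ha1
  have heq := Subgroup.eq_of_le_of_card_ge hle (by rw [hzc]; exact Nat.le_of_dvd (by norm_num) hcard)
  have hb : π b ∈ Subgroup.zpowers (π a) := heq ▸ Subgroup.subset_closure (by simp)
  obtain ⟨k, hk⟩ := (mem_powers_iff_mem_zpowers).2 hb
  have hk' : π (a ^ k) = π b := by rw [map_pow]; exact hk
  obtain ⟨r, -, hr⟩ := Matrix.SpecialLinearGroup.mem_center_iff.1 (QuotientGroup.eq.1 hk')
  have h1 : b = a ^ k * ((a ^ k)⁻¹ * b) := (mul_inv_cancel_left _ _).symm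
  have h2 := congrFun (congrFun (congrArg Subtype.val h1) 0) 1
  change b.1 0 1 = ((a ^ k).1 * ((a ^ k)⁻¹ * b).1) 0 1 at h2
  rw [← hr, Matrix.SpecialLinearGroup.coe_pow] at h2
  simp [a, b, diagonal_pow, Matrix.mul_apply, Fin.sum_univ_three] at h2

theorem not_isPrimePow_of_two {n p q : ℕ} (hp : p.Prime) (hq : q.Prime) (hpq : p ≠ q) (hpn : p ∣ n)
    (hqn : q ∣ n) : ¬ IsPrimePow n := fun hn => by
  obtain ⟨k, rfl⟩ := eq_pow_of_dvd hp hn hpn
  exact hpq ((Nat.prime_dvd_prime_iff_eq hq hp).1 (hq.dvd_of_dvd_pow hqn)).symm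

theorem primeFactors_le {n : ℕ} (S : Finset ℕ) (L : List (ℕ × ℕ))
    (hn : n = (L.map fun x => x.1 ^ x.2).prod) (hL : ∀ x ∈ L, x.1.Prime ∧ x.1 ∈ S) :
    n.primeFactors ⊆ S := by
  intro p hp
  have hpp := Nat.prime_of_mem_primeFactors hp
  have hd := Nat.dvd_of_mem_primeFactors hp
  rw [hn] at hd
  obtain ⟨c, hc, hpc⟩ := (Prime.dvd_prod_iff hpp.prime).1 hd
  obtain ⟨⟨r, i⟩, hx, rfl⟩ := List.mem_map.1 hc
  rw [(Nat.prime_dvd_prime_iff_eq hpp (hL _ hx).1).1 (hpp.dvd_of_dvd_pow hpc)]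
  exact (hL _ hx).2

/-- The orders of the groups of the list. -/
theorem order_cases {M : Type u} [Group M] [Finite M] (hM : PPList M) :
    (Nat.card M).primeFactors.card ≤ 3 ∨
    (Nat.card M = 20160 ∧ ∃ (F : Type) (_ : Field F) (_ : Fintype F), Fintype.card F = 4 ∧
      Nonempty (M ≃* Matrix.ProjectiveSpecialLinearGroup (Fin 3) F)) ∨
    (∃ (F : Type) (_ : Field F) (_ : Fintype F),
      (Nat.card M = 29120 ∧ Fintype.card F = 8 ∧ Nonempty (M ≃* ↥(Cfsg.Lie.Sz F 4))) ∨
      (Nat.card M = 32537600 ∧ Fintype.card F = 32 ∧ Nonempty (M ≃* ↥(Cfsg.Lie.Sz F 8)))) := by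
  have h3 : ∀ {a b c : ℕ}, ({a, b, c} : Finset ℕ).card ≤ 3 := Finset.card_le_three
  have h235 : ∀ i j k, Nat.card M = 2 ^ i * (3 ^ j * (5 ^ k * 1)) →
      (Nat.card M).primeFactors.card ≤ 3 := fun i j k e =>
    (Finset.card_le_card (primeFactors_le {2, 3, 5} [(2, i), (3, j), (5, k)] (by simpa using e)
      (by simp; norm_num))).trans h3
  have h237 : ∀ i j k, Nat.card M = 2 ^ i * (3 ^ j * (7 ^ k * 1)) →
      (Nat.card M).primeFactors.card ≤ 3 := fun i j k e =>
    (Finset.card_le_card (primeFactors_le {2, 3, 7} [(2, i), (3, j), (7, k)] (by simpa using e)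
      (by simp; norm_num))).trans h3
  have h2317 : ∀ i j k, Nat.card M = 2 ^ i * (3 ^ j * (17 ^ k * 1)) →
      (Nat.card M).primeFactors.card ≤ 3 := fun i j k e =>
    (Finset.card_le_card (primeFactors_le {2, 3, 17} [(2, i), (3, j), (17, k)] (by simpa using e)
      (by simp; norm_num))).trans h3
  rcases hM with he | ⟨F, _, _, hF, ⟨e⟩⟩ | ⟨F, _, _, hF, ⟨e⟩⟩ | ⟨F, _, _, h⟩
  · left
    obtain ⟨e⟩ := he
    have hc : Nat.card M = 360 := by
      rw [Nat.card_congr e.toEquiv, nat_card_alternatingGroup, Nat.card_fin]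
      rfl
    exact h235 3 2 1 (by rw [hc]; norm_num)
  · left
    have hc := CfsgLib.Perm.ZGroup.card_psl2_gcd (F := F)
    rw [← Nat.card_congr e.toEquiv] at hc
    simp only [Finset.mem_insert, Finset.mem_singleton] at hF
    rcases hF with hF | hF | hF | hF <;> rw [hF] at hc <;> norm_num at hc
    · exact h235 2 1 1 (by rw [hc]; norm_num)
    · exact h237 3 1 1 (by omega)
    · exact h237 3 2 1 (by rw [hc]; norm_num)
    · exact h2317 4 2 1 (by omega)
  · refine Or.inr (Or.inl ⟨?_, F, inferInstance, inferInstance, hF, ⟨e⟩⟩)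
    rw [Nat.card_congr e.toEquiv, CfsgLib.SmallGroups.M21.card_psl F hF]
  · refine Or.inr (Or.inr ⟨F, inferInstance, inferInstance, ?_⟩)
    rcases h with ⟨hF, ⟨e⟩⟩ | ⟨hF, ⟨e⟩⟩
    · refine Or.inl ⟨?_, hF, ⟨e⟩⟩
      have hp : CfsgLib.KnownB.Suzuki.Params F 4 :=
        CfsgLib.KnownB.Suzuki.params_of_card (m := 1) le_rfl (by rw [hF]; norm_num)
      rw [Nat.card_congr e.toEquiv, CfsgLib.KnownB.Suzuki.card_eq hp, hF]
      norm_num
    · refine Or.inr ⟨?_, hF, ⟨e⟩⟩
      have hp : CfsgLib.KnownB.Suzuki.Params F 8 :=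
        CfsgLib.KnownB.Suzuki.params_of_card (m := 2) one_le_two (by rw [hF]; norm_num)
      rw [Nat.card_congr e.toEquiv, CfsgLib.KnownB.Suzuki.card_eq hp, hF]
      norm_num

/-- At most four primes divide the order, with equality only for three groups. -/
theorem four_primes {G : Type u} [Group G] [Finite G]
    (hclass : ∀ (M : Type u) [Group M] [Finite M] [IsSimpleGroup M], ¬ IsMulCommutative M →
      (∀ g : M, g ≠ 1 → IsPrimePow (orderOf g)) → PPList M)
    (h : ∀ g : G, g ≠ 1 → IsPrimePow (orderOf g)) :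
    (Nat.card G).primeFactors.card ≤ 4 ∧
    ((Nat.card G).primeFactors.card = 4 →
      (∃ (F : Type) (_ : Field F) (_ : Fintype F), Fintype.card F = 4 ∧
        Nonempty (G ≃* Matrix.ProjectiveSpecialLinearGroup (Fin 3) F)) ∨
      (∃ (N : Subgroup G) (_ : N.Normal), IsPGroup 2 ↥N ∧
        ∃ (F : Type) (_ : Field F) (_ : Fintype F),
          (Fintype.card F = 8 ∧ Nonempty (G ⧸ N ≃* ↥(Cfsg.Lie.Sz F 4))) ∨
          (Fintype.card F = 32 ∧ Nonempty (G ⧸ N ≃* ↥(Cfsg.Lie.Sz F 8))))) := by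
  classical
  by_cases hsol : Group.IsSolvable G
  · have h2 := Cfsg.Agent.S1475.result (G := G) fun g => (em (g = 1)).elim Or.inr fun hg => Or.inl (h g hg)
    exact ⟨by omega, fun e => by omega⟩
  obtain ⟨R, hRn, hRs, hRmax⟩ := CfsgLib.Recognition.OneToFive.exists_radical G
  haveI := hRn
  obtain ⟨⟨p, hp, hRp⟩, ⟨M, hMn, hMs, hMc, -⟩, -⟩ := Cfsg.Agent.S3992.result hsol h R hRs hRmax
  haveI := hMn
  haveI := hMs
  have hQ := Cfsg.Agent.S3992.quotient_pp R h
  have hMpp : ∀ g : M, g ≠ 1 → IsPrimePow (orderOf g) := fun g hg => by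
    rw [← Subgroup.orderOf_coe]
    exact hQ _ fun e => hg (Subtype.ext e)
  -- the radical is a 2-group
  haveI : Fact (Nat.Prime 2) := ⟨Nat.prime_two⟩
  obtain ⟨E, hE⟩ := Cfsg.Agent.S0204.result (G := M) fun hc => hMc (by
    haveI := hc
    exact IsCyclic.isMulCommutative)
  have hR2 : IsPGroup 2 R := by
    rcases eq_or_ne p 2 with rfl | hp2
    · exact hRp
    have hU : IsPGroup 2 (E.map M.subtype) :=
      (IsPGroup.of_card (n := 2) (by rw [hE.card_four]; norm_num)).map _
    have hbot := eq_bot_of_noncyclic h hp Nat.prime_two hp2 R hRp (E.map M.subtype) hU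
      (CfsgLib.Solvable.Basic.isMulCommutative_subgroup_iff.2 (by
        rintro _ ⟨a, ha, rfl⟩ _ ⟨b, hb, rfl⟩
        rw [← map_mul, ← map_mul]
        exact congrArg M.subtype (congrArg Subtype.val
          (mul_comm_of_exponent_two hE.exponent_two ⟨a, ha⟩ ⟨b, hb⟩))))
      fun hc => by
        haveI := hE
        exact IsKleinFour.not_isCyclic (G := E)
          ((MulEquiv.isCyclic (E.equivMapOfInjective _ M.subtype_injective)).2 hc)
    rw [hbot]
    exact IsPGroup.of_bot
  -- the primes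
  have h2M : 2 ∣ Nat.card M :=
    (by rw [hE.card_four]; norm_num : 2 ∣ Nat.card E).trans (Subgroup.card_subgroup_dvd_card E)
  have hsub : (Nat.card G).primeFactors ⊆ (Nat.card M).primeFactors := by
    intro s hs
    have hsp := Nat.prime_of_mem_primeFactors hs
    have hsd := Nat.dvd_of_mem_primeFactors hs
    rw [Subgroup.card_eq_card_quotient_mul_card_subgroup R] at hsd
    refine Nat.mem_primeFactors.2 ⟨hsp, ?_, Nat.card_pos.ne'⟩
    rcases (Nat.Prime.dvd_mul hsp).1 hsd with hd | hd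
    · exact dvd_card_simple hQ M hMc hsp hd
    · obtain ⟨a, ha⟩ := IsPGroup.iff_card.1 hR2
      rw [ha] at hd
      rwa [(Nat.prime_dvd_prime_iff_eq hsp Nat.prime_two).1 (hsp.dvd_of_dvd_pow hd)]
  have hle := Finset.card_le_card hsub
  rcases order_cases (hclass M hMc hMpp) with h3 | ⟨hcard, F, _, _, hF, ⟨e⟩⟩ | ⟨F, _, _, hSz⟩
  · exact ⟨by omega, fun e => by omega⟩
  · refine ⟨hle.trans ((Finset.card_le_card (primeFactors_le {2, 3, 5, 7}
      [(2, 6), (3, 2), (5, 1), (7, 1)] (by rw [hcard]; norm_num) (by simp; norm_num))).trans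
        Finset.card_le_four), fun _ => Or.inl ⟨F, inferInstance, inferInstance, hF, ?_⟩⟩
    haveI : Fact (Nat.Prime 7) := ⟨by norm_num⟩
    have hM : M = ⊤ := eq_top_of_sylow hQ M 7 2880 hcard (by norm_num) (by norm_num)
      fun t ht htp hkt => by
        have := Nat.le_of_dvd (by norm_num) ht
        norm_num at hkt
        interval_cases t <;> first
          | omega
          | exact absurd htp (not_isPrimePow_of_two Nat.prime_two Nat.prime_three (by norm_num) (Nat.dvd_of_mod_eq_zero rfl) (Nat.dvd_of_mod_eq_zero rfl))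
    let φ : G ⧸ R ≃* Matrix.ProjectiveSpecialLinearGroup (Fin 3) F :=
      (Subgroup.topEquiv.symm.trans (MulEquiv.subgroupCongr hM.symm)).trans e
    obtain ⟨U, hU, hUc, hUnc⟩ := psl34_noncyclic F hF
    let ε := U.equivMapOfInjective φ.symm.toMonoidHom φ.symm.injective
    have hbot := eq_bot_of_noncyclic h Nat.prime_two Nat.prime_three (by norm_num) R hR2
      (U.map φ.symm.toMonoidHom) (hU.map _)
      (CfsgLib.Solvable.Basic.isMulCommutative_subgroup_iff.2 (by
        rintro _ ⟨a, ha, rfl⟩ _ ⟨b, hb, rfl⟩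
        rw [← map_mul, ← map_mul,
          CfsgLib.Solvable.Basic.isMulCommutative_subgroup_iff.1 hUc a ha b hb]))
      fun hc => hUnc ((MulEquiv.isCyclic ε).2 hc)
    exact ⟨((QuotientGroup.quotientMulEquivOfEq hbot).trans QuotientGroup.quotientBot).symm.trans φ⟩
  · rcases hSz with ⟨hcard, hF, ⟨e⟩⟩ | ⟨hcard, hF, ⟨e⟩⟩
    · refine ⟨hle.trans ((Finset.card_le_card (primeFactors_le {2, 5, 7, 13}
        [(2, 6), (5, 1), (7, 1), (13, 1)] (by rw [hcard]; norm_num) (by simp; norm_num))).trans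
          Finset.card_le_four), fun _ => Or.inr ⟨R, hRn, hR2, F, inferInstance, inferInstance, ?_⟩⟩
      haveI : Fact (Nat.Prime 5) := ⟨by norm_num⟩
      have hM : M = ⊤ := eq_top_of_sylow hQ M 5 5824 hcard (by norm_num) (by norm_num)
        fun t ht htp hkt => by
          have := Nat.le_of_dvd (by norm_num) ht
          norm_num at hkt
          interval_cases t <;> omega
      exact Or.inl ⟨hF, ⟨(Subgroup.topEquiv.symm.trans (MulEquiv.subgroupCongr hM.symm)).trans e⟩⟩
    · refine ⟨hle.trans ((Finset.card_le_card (primeFactors_le {2, 5, 31, 41}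
        [(2, 10), (5, 2), (31, 1), (41, 1)] (by rw [hcard]; norm_num) (by simp; norm_num))).trans
          Finset.card_le_four), fun _ => Or.inr ⟨R, hRn, hR2, F, inferInstance, inferInstance, ?_⟩⟩
      haveI : Fact (Nat.Prime 31) := ⟨by norm_num⟩
      have hM : M = ⊤ := eq_top_of_sylow hQ M 31 1049600 hcard (by norm_num) (by norm_num)
        fun t ht htp hkt => by
          have := Nat.le_of_dvd (by norm_num) ht
          norm_num at hkt
          interval_cases t <;> first
            | omega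
            | exact absurd htp <| not_isPrimePow_of_two Nat.prime_two Nat.prime_three (by norm_num) (Nat.dvd_of_mod_eq_zero rfl) (Nat.dvd_of_mod_eq_zero rfl)
            | exact absurd htp <| not_isPrimePow_of_two Nat.prime_two Nat.prime_five (by norm_num) (Nat.dvd_of_mod_eq_zero rfl) (Nat.dvd_of_mod_eq_zero rfl)
      exact Or.inr ⟨hF, ⟨(Subgroup.topEquiv.symm.trans (MulEquiv.subgroupCongr hM.symm)).trans e⟩⟩

end CfsgLib.Recognition.PrimePowerSimple
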